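/-
Automorphisms of ²E₆(q), ³D₄(q): the root subgroups of the simple orbits.

* `TabAut`     : the table conditions used.
* `mem_Uo_pos`, `mem_Uo_neg`, `not_commute_op_om`, `commute_op_om`, `not_commute_adj`.
* `exists_maps_conj`, `exists_normalised` : after an inner automorphism each `U_{±a}` is fixed.
-/
import Cfsg.Agent.Lib.TwistE6D4.Facts
import Cfsg.Agent.Lib.TwistE6D4.Orders
import Cfsg.Agent.Lib.ChevAut.RGDAut
import Cfsg.Agent.Lib.ChevAut.Maps

set_option autoImplicit false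
set_option linter.unusedSectionVars false

namespace Cfsg.Agent.TwistE6D4

open Cfsg.Lie Cfsg.Lie.ChevalleyDatum Cfsg.Agent.Chev
open Cfsg.Agent.ChevAut (Maps exists_fix_pair exists_maps_pos exists_maps_neg)

variable {D : ChevalleyDatum} {K : Type*} [Field K]

/-- The table conditions for the automorphism theorem. -/
structure TabAut (T : Twist D) {m : ℕ} (node : Fin m → Fin D.rank) (adj : Fin m → Fin m → Bool) where
  long : ∃ l : List (Fin m), NegW T node l ∧ ∀ a, ∃ i < T.len (D.neg (D.simple (node a).val)),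
    T.rho^[i] (D.neg (D.simple (node a).val)) = wW T node l (D.simple (node a).val)
  pm : ∀ a b, a ≠ b → ∀ k < T.len (D.simple (node a).val), ∀ l < T.len (D.simple (node b).val),
    D.commTerms (T.rho^[k] (D.simple (node a).val)) (D.neg (T.rho^[l] (D.simple (node b).val))) = [] ∧
      T.rho^[k] (D.simple (node a).val) ≠ T.rho^[l] (D.simple (node b).val)
  pp : ∀ a b, a ≠ b → adj a b = false →
    ∀ k < T.len (D.simple (node a).val), ∀ l < T.len (D.simple (node b).val),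
    D.commTerms (T.rho^[k] (D.simple (node a).val)) (T.rho^[l] (D.simple (node b).val)) = [] ∧
      T.rho^[l] (D.simple (node b).val) ≠ D.neg (T.rho^[k] (D.simple (node a).val))
  up : ∀ a b, a ≠ b → adj a b = true → 1 < T.ht (wF T (node a) (D.simple (node b).val))
  rigid : ∀ π : Fin m → Fin m, (∀ a, T.len (D.simple (node (π a)).val) = T.len (D.simple (node a).val)) →
    (∀ a b, a ≠ b → π a ≠ π b) → (∀ a b, a ≠ b → adj (π a) (π b) = adj a b) → ∀ a, π a = a

theorem coef_eq_zero_of_Tri (hD : Good D) {f : ℕ → ℤ} (hf : Cfsg.Agent.ChevSt.IsLin D f) {r : ℕ}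
    (hr : r < D.nroots) {h : ℕ} (hfr : f r < h) {g : GL D.Idx K} (hg : g ∈ Tri D K f h) : coef D r g = 0 := by
  have hn := hD.neg_lt r hr
  refine Finset.sum_eq_zero fun i _ => ?_
  rw [mulVec_ev D _ hn]
  beta_reduce
  rw [mem_Tri hg (by simp only [key_inl, key_inr, hf.neg r hr]; omega),
    Matrix.one_apply_ne (by simp), mul_zero]

namespace Ctx

variable (C : Ctx D K)

theorem U_simple (a : Fin C.m) : C.rgd.U (C.rgd.simple a) = C.Uo (C.p a) := rfl

theorem U_neg (a : Fin C.m) : C.rgd.U (C.rgd.neg (C.rgd.simple a)) = C.Uo (D.neg (C.p a)) := by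
  show C.Uo (C.repOf (D.neg (C.p a))) = _
  rw [C.repOf_self (C.hR.rep_negSimple a).1]

theorem mem_Uo_pos {a : Fin C.m} {g : GL D.Idx K} :
    g ∈ C.Uo (C.p a) ↔ ∃ t, C.Pm a t ∧ g = C.op a t := by
  refine ⟨fun hg => ?_, fun ⟨t, ht, e⟩ => e ▸ C.op_mem_Uo a ht⟩
  obtain ⟨t, ht, rfl⟩ := C.mem_Uo (C.hR.rep_simple a) hg
  exact ⟨t, ht, (C.op_eq a t).symm⟩

theorem mem_Uo_neg {a : Fin C.m} {g : GL D.Idx K} :
    g ∈ C.Uo (D.neg (C.p a)) ↔ ∃ t, C.Pm a t ∧ g = C.om a t := by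
  have hl : C.T.len (D.neg (C.p a)) = C.L a := (C.hR.rep_negSimple a).2
  constructor
  · intro hg
    obtain ⟨t, ht, rfl⟩ := C.mem_Uo (C.hR.rep_negSimple a).1 hg
    rw [hl] at ht
    exact ⟨t, ht, (C.om_eq a t).symm⟩
  · rintro ⟨t, ht, rfl⟩
    rw [C.om_eq]
    refine C.orb_mem_Uo (C.hR.rep_negSimple a).1 ?_
    rwa [hl]

theorem op_inj (a : Fin C.m) {t u : K} (h : C.op a t = C.op a u) : t = u := by
  rw [C.op_eq, C.op_eq] at h
  exact C.orb_inj (C.hR.rep_simple a) h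

theorem om_inj (a : Fin C.m) {t u : K} (h : C.om a t = C.om a u) : t = u := by
  rw [C.om_eq, C.om_eq] at h
  exact C.orb_inj (C.hR.rep_negSimple a).1 h

theorem op_add (a : Fin C.m) (t u : K) : C.op a (t + u) = C.op a t * C.op a u := by
  rw [C.op_eq, C.op_eq, C.op_eq, C.orb_add (C.hR.rep_simple a)]

theorem om_add (a : Fin C.m) (t u : K) : C.om a (t + u) = C.om a t * C.om a u := by
  rw [C.om_eq, C.om_eq, C.om_eq, C.orb_add (C.hR.rep_negSimple a).1]

theorem op_zero (a : Fin C.m) : C.op a (0 : K) = 1 := by rw [C.op_eq]; exact C.orb_zero _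

theorem op_om_eq_one (a : Fin C.m) {t u : K} (ht : C.Pm a t) (hu : C.Pm a u) (h : C.op a t = C.om a u) :
    C.op a t = 1 := by
  rw [← Subgroup.mem_bot, ← C.rgd.B_inf_V]
  refine ⟨C.rgd.Upos_le_B (C.rgd.U_le_Upos (C.rgd.pos_simple a) ?_), ?_⟩
  · exact C.op_mem_Uo a ht
  · have hn : ¬ C.rgd.pos (C.rgd.neg (C.rgd.simple a)) := fun h => (C.rgd.pos_neg _).1 h (C.rgd.pos_simple a)
    refine C.rgd.U_le_Vneg hn ?_
    rw [C.U_neg, h]
    exact C.mem_Uo_neg.2 ⟨u, hu, rfl⟩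

/-- `U_a` and `U_{-a}` do not commute. -/
theorem not_commute_op_om (a : Fin C.m) :
    ¬ ∀ t u, C.Pm a t → C.Pm a u → Commute (C.op a t) (C.om a u) := by
  intro h
  have h1 := C.Pm_one a
  have hc : Commute (C.ns a 1) (C.op a 1) := by
    rw [C.ns_eq]
    exact ((Commute.refl _).mul_left (h 1 _ h1 (C.Pm_negInv h1)).symm).mul_left (Commute.refl _)
  have hy : C.op a 1 ∈ C.rgd.U (C.rgd.neg (C.rgd.simple a)) := by
    rw [← C.rgd.w_simple]
    have := C.rgd.n_conj_U a (C.rgd.simple a) _ (C.op_mem_Uo a h1)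
    rwa [show C.rgd.n a * C.op a 1 * (C.rgd.n a)⁻¹ = C.op a 1 from mul_inv_eq_iff_eq_mul.2 hc.eq] at this
  rw [C.U_neg] at hy
  obtain ⟨u, hu, e⟩ := C.mem_Uo_neg.1 hy
  exact one_ne_zero (C.op_inj a ((C.op_om_eq_one a h1 hu e).trans (C.op_zero a).symm))

theorem commute_op_om {adj : Fin C.m → Fin C.m → Bool} (hA : TabAut C.T C.node adj) {a b : Fin C.m}
    (hab : a ≠ b) (t u : K) : Commute (C.op a t) (C.om b u) := by
  refine Commute.list_prod_left _ _ fun x hx => Commute.list_prod_right _ _ fun y hy => ?_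
  obtain ⟨k, hk, rfl⟩ := List.mem_map.1 hx
  obtain ⟨l, hl, rfl⟩ := List.mem_map.1 hy
  obtain ⟨hc, hne⟩ := hA.pm a b hab k (List.mem_range.1 hk) l (List.mem_range.1 hl)
  refine commute_gx C.hD (C.rk_lt a k) (C.hD.neg_lt _ (C.rk_lt b l)) (fun e => hne ?_) hc _ _
  have := congrArg D.neg e
  rw [C.hD.neg_neg _ (C.rk_lt a k), C.hD.neg_neg _ (C.rk_lt b l)] at this
  exact this.symm

theorem commute_op_op {adj : Fin C.m → Fin C.m → Bool} (hA : TabAut C.T C.node adj) {a b : Fin C.m}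
    (hab : a ≠ b) (h : adj a b = false) (t u : K) : Commute (C.op a t) (C.op b u) := by
  refine Commute.list_prod_left _ _ fun x hx => Commute.list_prod_right _ _ fun y hy => ?_
  obtain ⟨k, hk, rfl⟩ := List.mem_map.1 hx
  obtain ⟨l, hl, rfl⟩ := List.mem_map.1 hy
  obtain ⟨hc, hne⟩ := hA.pp a b hab h k (List.mem_range.1 hk) l (List.mem_range.1 hl)
  exact commute_gx C.hD (C.rk_lt a k) (C.rk_lt b l) hne hc _ _

/-- Adjacent simple orbits do not commute. -/
theorem not_commute_adj {adj : Fin C.m → Fin C.m → Bool} (hA : TabAut C.T C.node adj) {a b : Fin C.m}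
    (hab : a ≠ b) (h : adj a b = true) :
    ¬ ∀ t u, C.Pm a t → C.Pm b u → Commute (C.op a t) (C.op b u) := by
  intro hcom
  have h1 := C.Pm_one a
  have h2 := C.Pm_one b
  have hc : Commute (C.ns a 1) (C.op b 1) := by
    rw [C.ns_eq]
    exact ((hcom _ _ h1 h2).mul_left (C.commute_op_om hA hab.symm _ _).symm).mul_left (hcom _ _ h1 h2)
  have hb := C.p_lt b
  set r := C.repOf (wF C.T (C.node a) (C.p b))
  have hy : C.op b 1 ∈ C.Uo r := by
    have := C.rgd.n_conj_U a (C.rgd.simple b) _ (C.op_mem_Uo b h2)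
    rwa [show C.rgd.n a * C.op b 1 * (C.rgd.n a)⁻¹ = C.op b 1 from mul_inv_eq_iff_eq_mul.2 hc.eq] at this
  have hw := C.wF_lt a hb
  have hr : 2 ≤ C.T.ht r := by
    rw [C.ht_repOf hw]
    have : (1 : ℤ) < C.T.ht (wF C.T (C.node a) (C.p b)) := hA.up a b hab h
    omega
  have hT : C.op b 1 ∈ Tri D K C.T.ht 2 := by
    refine (UT_le C.hD fun q hq t => ?_) hy.1
    obtain ⟨hq1, hq2⟩ := C.orbS_pos (r := ⟨r, (C.repOf_spec hw).1⟩) hq
    exact gx_mem_Tri C.hD C.hT.isLin_ht hq1 (by rw [hq2]; exact_mod_cast hr) (by norm_num) t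
  have h0 := coef_eq_zero_of_Tri C.hD C.hT.isLin_ht hb (h := 2)
    (by rw [show C.T.ht (C.p b) = 1 from C.hR.ht_one b]; norm_num) hT
  have hS := C.orbS_ok (C.hR.rep_simple b)
  have hm : C.p b ∈ C.orbS (C.p b) := ⟨0, C.L_pos b, rfl⟩
  have hf : C.fOf (C.p b) (C.p b) = (1 : ℕ) := by
    simp [fOf, C.hR.ht_one b]
  have h3 := hS.coef_orb C.hT C.hD C.φ (h := 1) le_rfl (C.hR.rep_simple b) (C.hR.rep_simple b) hm hm hf hf
    (1 : K) (i := 0) (C.L_pos b)
  rw [if_pos rfl, cf_zero, ← C.op_eq] at h3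
  exact one_ne_zero (h3.symm.trans h0)

theorem long_opp {l : List (Fin C.m)} (hl : NegW C.T C.node l) :
    ∀ r, C.rgd.pos r → ¬ C.rgd.pos (C.rgd.ww l r) := fun r hr => by
  rw [C.pos_ww]
  exact hl r.1 r.2 hr

theorem long_simple {l : List (Fin C.m)}
    (h : ∀ a, ∃ i < C.T.len (D.neg (C.p a)), C.T.rho^[i] (D.neg (C.p a)) = wW C.T C.node l (C.p a))
    (a : Fin C.m) : C.rgd.ww l (C.rgd.simple a) = C.rgd.neg (C.rgd.simple a) := by
  refine Subtype.ext ((C.ww_val l _).2.trans ?_)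
  show C.repOf (wW C.T C.node l (C.p a)) = C.repOf (D.neg (C.p a))
  obtain ⟨i, hi, e⟩ := h a
  rw [C.repOf_self (C.hR.rep_negSimple a).1]
  exact C.repOf_eq (C.hR.rep_negSimple a).1 ⟨i, hi, e⟩

theorem Upos_le_G0 : C.rgd.Upos ≤ C.G0 := C.rgd_G ▸ C.rgd.Upos_le_B.trans C.rgd.B_le_G

variable [Fintype K] {C} {q k : ℕ} (hq : Hyp C q k) {p : ℕ} [hp : Fact p.Prime] {f : ℕ} (hqp : q = p ^ f)

theorem H_pow_eq_one {h : GL D.Idx K} (hh : h ∈ C.rgd.H) : h ^ (Fintype.card K - 1) = 1 := by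
  obtain ⟨x, -, rfl⟩ := hh
  rw [← map_pow]
  refine (congrArg _ ?_).trans (map_one _)
  funext i
  exact Units.ext (by simpa using FiniteField.pow_card_sub_one_eq_one _ (x i).ne_zero)

include hq hqp in
theorem exists_maps_conj (θ : C.G0 ≃* C.G0) :
    ∃ g ∈ C.G0, Maps θ C.rgd.Upos (C.rgd.Upos.map (MulAut.conj g).toMonoidHom) := by
  classical
  set R := C.rgd with hR
  set U := R.Upos.subgroupOf C.G0 with hU
  have hUle : R.Upos ≤ C.G0 := C.Upos_le_G0
  have hP : IsPGroup p U := by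
    refine IsPGroup.of_card
      (n := f * ((C.T.reps.filter fun r => decide (0 < C.T.ht r)).map C.T.len).sum) ?_
    rw [Nat.card_congr (Subgroup.subgroupOfEquivOfLe hUle).toEquiv, hR, card_Upos hq, hqp, ← pow_mul]
  have hsyl : ∀ {Q : Subgroup C.G0}, IsPGroup p Q → U ≤ Q → Q = U := by
    intro Q hQ hle
    by_contra hne
    haveI := hQ.isNilpotent
    set U' := U.subgroupOf Q
    have hlt : U' < ⊤ := lt_top_iff_ne_top.2 fun e =>
      hne (le_antisymm ((Subgroup.subgroupOf_eq_top.1 e)) hle)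
    obtain ⟨-, g, hgN, hgU⟩ := SetLike.lt_iff_le_and_exists.1
      (Group.normalizerCondition_of_isNilpotent U' hlt)
    apply hgU
    set x : GL D.Idx K := ((g : C.G0) : GL D.Idx K) with hx
    have hxN : x ∈ Subgroup.normalizer (R.Upos : Set (GL D.Idx K)) := by
      refine Subgroup.mem_normalizer_fintype fun y hy => ?_
      exact (Subgroup.mem_normalizer_iff.1 hgN ⟨⟨y, hUle hy⟩, hle hy⟩).1 hy
    have hxB : x ∈ R.B := by
      rw [← ChevAut.normalizer_Upos R]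
      exact Subgroup.mem_inf.2 ⟨hxN, by rw [hR, C.rgd_G]; exact (g : C.G0).2⟩
    obtain ⟨u, hu, h, hh, e⟩ := R.exists_B hxB
    have hhG : h ∈ C.G0 := C.rgd_G ▸ R.B_le_G (R.H_le_B hh)
    obtain ⟨j, hj⟩ : ∃ j, h ^ (p ^ j) = 1 := by
      have hhQ : (⟨h, hhG⟩ : C.G0) ∈ Q := by
        have h1 := mul_mem (inv_mem (hle (show (⟨u, hUle hu⟩ : C.G0) ∈ U from hu))) g.2
        convert h1 using 1
        ext1
        show h = u⁻¹ * x
        rw [e]; group
      obtain ⟨j, hj⟩ := hQ ⟨_, hhQ⟩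
      exact ⟨j, congrArg Subtype.val (congrArg Subtype.val hj)⟩
    have hk0 : k ≠ 0 := by
      intro e0
      have := hq.card
      rw [e0, pow_zero] at this
      have := Fintype.one_lt_card (α := K)
      omega
    have hf0 : f ≠ 0 := by
      intro e0
      have := hq.one_lt
      rw [hqp, e0, pow_zero] at this
      omega
    have hcop : Nat.Coprime (p ^ j) (Fintype.card K - 1) := by
      refine Nat.Coprime.pow_left _ ((Nat.Prime.coprime_iff_not_dvd hp.out).2 fun hdvd => ?_)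
      have h1 : p ∣ Fintype.card K := by
        rw [hq.card, hqp, ← pow_mul]
        exact dvd_pow_self p (mul_ne_zero hf0 hk0)
      have h2 : Fintype.card K - (Fintype.card K - 1) = 1 := by
        have : 0 < Fintype.card K := Fintype.card_pos
        omega
      exact hp.out.not_dvd_one (h2 ▸ Nat.dvd_sub h1 hdvd)
    have h1 : h = 1 := by
      rw [← orderOf_eq_one_iff]
      exact Nat.eq_one_of_dvd_coprimes hcop (orderOf_dvd_of_pow_eq_one hj)
        (orderOf_dvd_of_pow_eq_one (H_pow_eq_one hh))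
    show x ∈ R.Upos
    rw [e, h1, mul_one]
    exact hu
  let P : Sylow p C.G0 := ⟨U, hP, fun hQ hle => hsyl hQ hle⟩
  obtain ⟨Q, hQ⟩ := (P.isPGroup'.map θ.toMonoidHom).exists_le_sylow
  obtain ⟨g, hg⟩ := MulAction.exists_smul_eq C.G0 P Q
  have hQg : (Q : Subgroup C.G0) = U.map (MulAut.conj g).toMonoidHom := by
    rw [← hg]; rfl
  have heq : U.map θ.toMonoidHom = (Q : Subgroup C.G0) := by
    refine Subgroup.eq_of_le_of_card_ge hQ (le_of_eq ?_)
    rw [hQg, Subgroup.card_map_of_injective (MulEquiv.injective _),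
      Subgroup.card_map_of_injective θ.injective]
  refine ⟨g, g.2, fun y => ?_⟩
  have h1 : (θ y ∈ U.map θ.toMonoidHom) ↔ (y : GL D.Idx K) ∈ R.Upos := by
    rw [Subgroup.mem_map_equiv, θ.symm_apply_apply]; rfl
  rw [← h1, heq, hQg, Subgroup.mem_map_equiv, RGD.RootData.mem_map_conj]
  simp [hU, Subgroup.mem_subgroupOf]

theorem commute_of_maps {θ : C.G0 ≃* C.G0} {A B A' B' : Subgroup (GL D.Idx K)} (hA : Maps θ A A')
    (hB : Maps θ B B') (hAG : A ≤ C.G0) (hBG : B ≤ C.G0) (h : ∀ x ∈ A', ∀ y ∈ B', Commute x y) :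
    ∀ x ∈ A, ∀ y ∈ B, Commute x y := fun x hx y hy => by
  have h1 : Commute (θ ⟨x, hAG hx⟩) (θ ⟨y, hBG hy⟩) :=
    Subtype.ext (h _ (hA.mem hx (hAG hx)) _ (hB.mem hy (hBG hy)))
  have h2 := h1.map θ.symm
  rw [θ.symm_apply_apply, θ.symm_apply_apply] at h2
  exact congrArg Subtype.val h2.eq

theorem Uo_pos_le (a : Fin C.m) : C.Uo (C.p a) ≤ C.G0 := fun g hg => by
  obtain ⟨t, ht, rfl⟩ := C.mem_Uo_pos.1 hg
  exact C.op_mem_G0 a ht

theorem Uo_neg_le (a : Fin C.m) : C.Uo (D.neg (C.p a)) ≤ C.G0 := fun g hg => by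
  obtain ⟨t, ht, rfl⟩ := C.mem_Uo_neg.1 hg
  exact C.om_mem_G0 a ht

include hq hqp in
/-- After an inner automorphism every fundamental root subgroup is fixed. -/
theorem exists_normalised {adj : Fin C.m → Fin C.m → Bool} (hA : TabAut C.T C.node adj)
    (θ : C.G0 ≃* C.G0) :
    ∃ x : C.G0, Maps (θ.trans (MulAut.conj x)) C.rgd.H C.rgd.H ∧
      ∀ a, Maps (θ.trans (MulAut.conj x)) (C.Uo (C.p a)) (C.Uo (C.p a)) ∧
        Maps (θ.trans (MulAut.conj x)) (C.Uo (D.neg (C.p a))) (C.Uo (D.neg (C.p a))) := by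
  obtain ⟨l, hl, hls⟩ := hA.long
  have hlo := C.long_opp hl
  obtain ⟨g, hg, hU⟩ := exists_maps_conj hq hqp θ
  obtain ⟨x, h1, h2⟩ := exists_fix_pair C.rgd hlo C.rgd_G θ hg hU
  choose π hπ using exists_maps_pos C.rgd hlo C.rgd_G h1 h2 id (C.long_simple hls) Function.surjective_id
  choose π' hπ' using exists_maps_neg C.rgd hlo C.rgd_G h1 h2
  set ψ := θ.trans (MulAut.conj x)
  have hp' : ∀ a, Maps ψ (C.Uo (C.p a)) (C.Uo (C.p (π a))) := fun a => hπ a
  have hm' : ∀ a, Maps ψ (C.Uo (D.neg (C.p a))) (C.Uo (D.neg (C.p (π' a)))) := fun a => by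
    have := hπ' a
    rwa [C.U_neg, C.U_neg] at this
  have hpm : ∀ a b, π a ≠ π' b → a ≠ b := by
    rintro a b hne rfl
    refine C.not_commute_op_om a fun t u ht hu => commute_of_maps (hp' a) (hm' a) (Uo_pos_le a) (Uo_neg_le a)
      (fun y hy z hz => ?_) _ (C.op_mem_Uo a ht) _ (C.mem_Uo_neg.2 ⟨u, hu, rfl⟩)
    obtain ⟨t', -, rfl⟩ := C.mem_Uo_pos.1 hy
    obtain ⟨u', -, rfl⟩ := C.mem_Uo_neg.1 hz
    exact C.commute_op_om hA hne t' u'
  have hπ'eq : ∀ a, π' a = π a := fun a => by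
    by_contra h
    exact hpm a a (Ne.symm h) rfl
  have hinj : ∀ a b, a ≠ b → π a ≠ π b := by
    intro a b hab e
    refine C.not_commute_op_om (π a) fun t u ht hu => ?_
    refine commute_of_maps (hp' a).symm (hm' b).symm (Uo_pos_le _) ?_ (fun y hy z hz => ?_) _
      (C.op_mem_Uo _ ht) _ (C.mem_Uo_neg.2 ⟨u, (show C.Pm (π' b) u by rw [hπ'eq, ← e]; exact hu), by rw [hπ'eq, ← e]⟩)
    · exact Uo_neg_le _
    · obtain ⟨t', -, rfl⟩ := C.mem_Uo_pos.1 hy
      obtain ⟨u', -, rfl⟩ := C.mem_Uo_neg.1 hz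
      exact C.commute_op_om hA hab t' u'
  have hlen : ∀ a, C.L (π a) = C.L a := fun a => by
    have h := (hp' a).card_eq (Uo_pos_le a) (Uo_pos_le _)
    rw [card_Uo_simple hq, card_Uo_simple hq] at h
    exact (Nat.pow_right_injective hq.one_lt h).symm
  have hadj : ∀ a b, a ≠ b → adj (π a) (π b) = adj a b := by
    intro a b hab
    cases h : adj a b <;> cases h' : adj (π a) (π b) <;> first | rfl | exfalso
    · refine C.not_commute_adj hA (hinj a b hab) h' fun t u ht hu => ?_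
      refine commute_of_maps (hp' a).symm (hp' b).symm (Uo_pos_le _) (Uo_pos_le _) (fun y hy z hz => ?_) _
        (C.op_mem_Uo _ ht) _ (C.op_mem_Uo _ hu)
      obtain ⟨t', -, rfl⟩ := C.mem_Uo_pos.1 hy
      obtain ⟨u', -, rfl⟩ := C.mem_Uo_pos.1 hz
      exact C.commute_op_op hA hab h t' u'
    · refine C.not_commute_adj hA hab h fun t u ht hu => ?_
      refine commute_of_maps (hp' a) (hp' b) (Uo_pos_le _) (Uo_pos_le _) (fun y hy z hz => ?_) _
        (C.op_mem_Uo _ ht) _ (C.op_mem_Uo _ hu)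
      obtain ⟨t', -, rfl⟩ := C.mem_Uo_pos.1 hy
      obtain ⟨u', -, rfl⟩ := C.mem_Uo_pos.1 hz
      exact C.commute_op_op hA (hinj a b hab) h' t' u'
  have hid := hA.rigid π hlen hinj hadj
  refine ⟨x, ChevAut.maps_H C.rgd hlo C.rgd_G h1 h2, fun a => ⟨?_, ?_⟩⟩
  · have := hp' a; rwa [hid a] at this
  · have := hm' a; rwa [hπ'eq, hid a] at this

end Ctx

end Cfsg.Agent.TwistE6D4
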