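/-
Automorphisms of ²E₆(q), ³D₄(q) on the rank-one subgroup of a simple orbit.

* `Fa a`, `opG`, `omG` : the parameter field of an orbit and its root elements in the group.
* `ns_conj_op`, `exists_field_of_maps` : the action is `(c σ, c⁻¹ σ)`.
-/
import Cfsg.Agent.Lib.TwistAut.Basic
import Cfsg.Agent.Lib.ChevAut.RankOneAut
import Mathlib.Algebra.Field.Subfield.Basic

set_option autoImplicit false
set_option linter.unusedSectionVars false

namespace Cfsg.Agent.TwistE6D4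

open Cfsg.Lie Cfsg.Lie.ChevalleyDatum Cfsg.Agent.Chev
open Cfsg.Agent.ChevBN (ng)
open Cfsg.Agent.ChevAut (Maps ng_conj_pos exists_ringEquiv map_conj_le)

variable {D : ChevalleyDatum} {K : Type*} [Field K]

namespace Ctx

variable (C : Ctx D K)

/-- The parameters of an orbit as a field. -/
def Fa (a : Fin C.m) : Subfield K := RingHom.eqLocusField (C.φ ^ C.L a : K →+* K) (RingHom.id K)

theorem mem_Fa {a : Fin C.m} {t : K} : t ∈ C.Fa a ↔ C.Pm a t := by
  show (C.φ ^ C.L a : K →+* K) t = RingHom.id K t ↔ _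
  rw [RingHom.coe_pow]
  rfl

theorem Pm_coe {a : Fin C.m} (t : C.Fa a) : C.Pm a (t : K) := C.mem_Fa.1 t.2

/-- A positive root element in the group. -/
def opG (a : Fin C.m) (t : C.Fa a) : C.G0 := ⟨C.op a t, C.op_mem_G0 a (C.Pm_coe t)⟩

/-- A negative root element in the group. -/
def omG (a : Fin C.m) (t : C.Fa a) : C.G0 := ⟨C.om a t, C.om_mem_G0 a (C.Pm_coe t)⟩

theorem hom_ext_G0 {Γ : Type*} [Group Γ] {φ ψ : C.G0 →* Γ}
    (h : ∀ a (t : C.Fa a), φ (C.opG a t) = ψ (C.opG a t) ∧ φ (C.omG a t) = ψ (C.omG a t)) : φ = ψ := by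
  refine MonoidHom.ext fun ⟨x, hx⟩ => ?_
  induction hx using Subgroup.closure_induction with
  | mem y hy =>
    obtain ⟨a, t, ht, rfl | rfl⟩ := hy
    · exact (h a ⟨t, C.mem_Fa.2 ht⟩).1
    · exact (h a ⟨t, C.mem_Fa.2 ht⟩).2
  | one => exact (map_one φ).trans (map_one ψ).symm
  | mul y z hy hz h1 h2 =>
    show φ (⟨y, hy⟩ * ⟨z, hz⟩) = ψ (⟨y, hy⟩ * ⟨z, hz⟩)
    rw [map_mul, map_mul, h1, h2]
  | inv y hy h1 =>
    show φ (⟨y, hy⟩⁻¹) = ψ (⟨y, hy⟩⁻¹)
    rw [map_inv, map_inv, h1]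

theorem aut_ext {φ ψ : C.G0 ≃* C.G0}
    (h : ∀ a (t : C.Fa a), φ (C.opG a t) = ψ (C.opG a t) ∧ φ (C.omG a t) = ψ (C.omG a t)) : φ = ψ :=
  MulEquiv.toMonoidHom_injective (C.hom_ext_G0 h)

theorem opG_inj {a : Fin C.m} {t u : C.Fa a} (h : C.opG a t = C.opG a u) : t = u :=
  Subtype.ext (C.op_inj a (congrArg Subtype.val h))

theorem omG_inj {a : Fin C.m} {t u : C.Fa a} (h : C.omG a t = C.omG a u) : t = u :=
  Subtype.ext (C.om_inj a (congrArg Subtype.val h))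

theorem opG_add (a : Fin C.m) (t u : C.Fa a) : C.opG a (t + u) = C.opG a t * C.opG a u :=
  Subtype.ext (C.op_add a (t : K) u)

theorem ns_eq_torVec_mul (a : Fin C.m) (t : Kˣ) :
    C.ns a (t : K) = theta D K (C.torVec a t) * C.ns a 1 := by
  have h := C.ns_mul_ns a t (-1)
  rw [_root_.neg_neg, inv_one, mul_one] at h
  have h1 := C.ns_inv a (1 : Kˣ)
  rw [Units.val_one] at h1
  rw [← h1] at h
  rw [← h, inv_mul_cancel_right]

theorem torVec_mem_H (a : Fin C.m) {t : Kˣ} (ht : C.Pm a (t : K)) :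
    theta D K (C.torVec a t) ∈ C.rgd.H :=
  ⟨_, C.torVec_mem a ht, rfl⟩

theorem map_conj_ns (a : Fin C.m) {t : K} (ht : C.Pm a t) (ht0 : t ≠ 0) (r : C.Orb) :
    (C.rgd.U r).map (MulAut.conj (C.ns a t)).toMonoidHom = C.rgd.U (C.rgd.w a r) := by
  have e := C.ns_eq_torVec_mul a (Units.mk0 t ht0)
  rw [Units.val_mk0] at e
  rw [e, RGD.RootData.map_conj_mul]
  rw [show C.ns a 1 = C.rgd.n a from rfl, C.rgd.map_conj_n, C.rgd.map_conj_H_U]
  exact C.torVec_mem_H a (t := Units.mk0 t ht0) ht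

theorem commute_ng_pos (a : Fin C.m) {k l : ℕ} (hk : k < C.L a) (hl : l < C.L a) (hkl : k ≠ l) (t u : K) :
    Commute (ng C.hD K (C.rk a k) t) (gx C.hD K (C.rk a l) u) := by
  rw [ng_eq]
  exact ((C.commute_pp a hk hl _ _).mul_left (C.commute_pm a hl hk hkl.symm _ _).symm).mul_left
    (C.commute_pp a hk hl _ _)

theorem commute_ng_neg (a : Fin C.m) {k l : ℕ} (hk : k < C.L a) (hl : l < C.L a) (hkl : k ≠ l) (t u : K) :
    Commute (ng C.hD K (C.rk a k) t) (gx C.hD K (D.neg (C.rk a l)) u) := by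
  rw [ng_eq]
  exact ((C.commute_pm a hk hl hkl _ _).mul_left (C.commute_mm a hk hl _ _)).mul_left
    (C.commute_pm a hk hl hkl _ _)

theorem ns_conj_op (a : Fin C.m) {t : K} (ht : t ≠ 0) (u : K) :
    C.ns a t * C.op a u * (C.ns a t)⁻¹ = C.om a (-u / t ^ 2) := by
  have hc : ∀ k, (⇑C.φ)^[k] t ≠ 0 := fun k => by
    rw [← RingHom.coe_pow]; exact fun h => ht ((map_eq_zero _).1 h)
  rw [mul_inv_eq_iff_eq_mul]
  simp only [ns, op, om, oprod]
  rw [← prod_map_mul, ← prod_map_mul]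
  · refine congrArg List.prod (List.map_congr_left fun k _ => ?_)
    have e := ng_conj_pos C.hD (C.rk_lt a k) (hc k) ((⇑C.φ)^[k] u)
    rw [xg_eq, xg_eq, mul_inv_eq_iff_eq_mul] at e
    rw [e]
    congr 2
    simp only [← RingHom.coe_pow, map_div₀, map_neg, map_pow]
  · exact range_pairwise fun i hi j hj hij => C.commute_ng_neg a hi hj hij _ _
  · exact range_pairwise fun i hi j hj hij => (C.commute_ng_pos a hj hi (Ne.symm hij) _ _).symm

/-- A product `x(A) x₋(B) x(A)` exchanging `U_{±a}` has `A B = -1`. -/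
theorem mul_eq_neg_one {a : Fin C.m} {A B : K} (hA : C.Pm a A) (hB : C.Pm a B)
    (h1 : (C.Uo (C.p a)).map (MulAut.conj (C.op a A * C.om a B * C.op a A)).toMonoidHom =
      C.Uo (D.neg (C.p a)))
    (h2 : (C.Uo (D.neg (C.p a))).map (MulAut.conj (C.op a A * C.om a B * C.op a A)).toMonoidHom =
      C.Uo (C.p a)) :
    A * B = -1 := by
  set R := C.rgd with hR
  have hneg : ¬ R.pos (R.neg (R.simple a)) := fun h => (R.pos_neg _).1 h (R.pos_simple a)
  have hpU : ∀ {t : K}, C.Pm a t → C.op a t ∈ R.U (R.simple a) := fun ht => C.op_mem_Uo a ht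
  have hmU : ∀ {t : K}, C.Pm a t → C.om a t ∈ R.U (R.neg (R.simple a)) := fun {t} ht => by
    rw [hR, C.U_neg]; exact C.mem_Uo_neg.2 ⟨t, ht, rfl⟩
  have hmem : C.op a A * C.om a B * C.op a A ∈ R.L a :=
    mul_mem (mul_mem (Subgroup.mem_sup_left (Subgroup.mem_sup_left (hpU hA)))
      (Subgroup.mem_sup_left (Subgroup.mem_sup_right (hmU hB))))
      (Subgroup.mem_sup_left (Subgroup.mem_sup_left (hpU hA)))
  rw [← C.U_simple, ← C.U_neg] at h1 h2
  obtain ⟨h, hh, e⟩ := R.mem_H_mul_n hmem h1 h2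
  have hb : B ≠ 0 := by
    intro hb
    subst hb
    apply R.not_U_le_B hneg
    rw [← h1]
    rintro _ ⟨y, hy, rfl⟩
    have hU : ∀ z ∈ R.U (R.simple a), z ∈ R.B := fun z hz =>
      R.Upos_le_B (R.U_le_Upos (R.pos_simple a) hz)
    have h0 : C.om a (0 : K) = 1 := by rw [C.om_eq]; exact C.orb_zero _
    rw [h0, mul_one]
    exact mul_mem (mul_mem (mul_mem (hU _ (hpU hA)) (hU _ (hpU hA))) (hU y hy))
      (inv_mem (mul_mem (hU _ (hpU hA)) (hU _ (hpU hA))))
  have hBi : C.Pm a (-B⁻¹) := C.Pm_negInv hB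
  have hBi' : C.Pm a B⁻¹ := by simpa using C.Pm_neg hBi
  have hy : C.om a B = C.op a B⁻¹ * C.ns a (-B⁻¹) * C.op a B⁻¹ := by
    rw [C.ns_eq, show (-(-B⁻¹)⁻¹ : K) = B by rw [inv_neg, inv_inv, _root_.neg_neg], ← C.op_inv]
    group
  set c := A + B⁻¹ with hc
  have hcm : C.Pm a c := C.mem_Fa.1 (add_mem (C.mem_Fa.2 hA) (C.mem_Fa.2 hBi'))
  set u : Kˣ := Units.mk0 (-B⁻¹) (neg_ne_zero.2 (inv_ne_zero hb))
  set k := theta D K (C.torVec a u)
  have hk : k ∈ R.H := C.torVec_mem_H a (t := u) hBi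
  have en : C.ns a (-B⁻¹) = k * R.n a := C.ns_eq_torVec_mul a u
  have e' : C.op a c * C.ns a (-B⁻¹) * C.op a c = h * k⁻¹ * C.ns a (-B⁻¹) * 1 := by
    rw [show h * k⁻¹ * C.ns a (-B⁻¹) * 1 = h * R.n a by rw [en]; group, ← e, hy, hc, C.op_add]
    nth_rewrite 2 [show C.op a A * C.op a B⁻¹ = C.op a B⁻¹ * C.op a A by
      rw [← C.op_add, ← C.op_add, add_comm]]
    group
  have hU : C.op a c ∈ R.Uminus [a] := by
    refine R.U_le_span (A := {r | R.pos r ∧ ¬ R.pos (R.ww [a] r)}) (r := R.simple a)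
      ⟨R.pos_simple a, ?_⟩ (hpU hcm)
    rw [R.ww_cons, R.ww_nil, R.w_simple]
    exact hneg
  obtain ⟨-, hu⟩ := R.normalForm_unique (k := k) (l := [a]) hk
    (by rw [R.nw_cons, R.nw_nil, mul_one]; exact en)
    (R.Upos_le_B (R.U_le_Upos (R.pos_simple a) (hpU hcm)))
    (mul_mem (R.H_le_B hh) (inv_mem (R.H_le_B hk))) hU (one_mem _) e'
  have hc0 : c = 0 := C.op_inj a (hu.trans (C.op_zero a).symm)
  rw [show A = c - B⁻¹ by simp [hc], hc0]
  field_simp
  ring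

/-- An automorphism fixing `U_{±a}` acts there by a field automorphism and a factor. -/
theorem exists_field_of_maps [Fintype K] {θ : C.G0 ≃* C.G0} {a : Fin C.m}
    (hp : Maps θ (C.Uo (C.p a)) (C.Uo (C.p a)))
    (hm : Maps θ (C.Uo (D.neg (C.p a))) (C.Uo (D.neg (C.p a)))) :
    ∃ (σ : C.Fa a ≃+* C.Fa a) (c : (C.Fa a)ˣ), ∀ t,
      θ (C.opG a t) = C.opG a (c * σ t) ∧ θ (C.omG a t) = C.omG a ((c⁻¹ : (C.Fa a)ˣ) * σ t) := by
  have ex1 : ∀ t, ∃ u, θ (C.opG a t) = C.opG a u := fun t => by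
    obtain ⟨u, hu, e⟩ := C.mem_Uo_pos.1 ((hp (C.opG a t)).1 (C.op_mem_Uo a (C.Pm_coe t)))
    exact ⟨⟨u, C.mem_Fa.2 hu⟩, Subtype.ext e⟩
  have ex2 : ∀ t, ∃ u, θ (C.omG a t) = C.omG a u := fun t => by
    obtain ⟨u, hu, e⟩ := C.mem_Uo_neg.1
      ((hm (C.omG a t)).1 (C.mem_Uo_neg.2 ⟨(t : K), C.Pm_coe t, rfl⟩))
    exact ⟨⟨u, C.mem_Fa.2 hu⟩, Subtype.ext e⟩
  choose f hf using ex1
  choose g hg using ex2
  have hfadd : ∀ t u, f (t + u) = f t + f u := fun t u => by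
    apply C.opG_inj
    rw [← hf, C.opG_add, map_mul, hf, hf, C.opG_add]
  have hfinj : Function.Injective f := fun t u h => C.opG_inj (θ.injective (by rw [hf, hf, h]))
  have hf0 : f 0 = 0 := by have := hfadd 0 0; rw [add_zero] at this; simpa using this
  have hfn : ∀ t, f (-t) = -f t := fun t => eq_neg_of_add_eq_zero_left (by rw [← hfadd, neg_add_cancel, hf0])
  let n : C.Fa a → C.G0 := fun t => C.opG a t * C.omG a (-t⁻¹) * C.opG a t
  have hn : ∀ t, ((n t : C.G0) : GL D.Idx K) = C.ns a (t : K) := fun t => by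
    rw [C.ns_eq]
    simp only [n, opG, omG, Subgroup.coe_mul]
    push_cast
    rfl
  have key : ∀ t, t ≠ 0 → f t * g (-t⁻¹) = -1 := by
    intro t ht
    have ht0 : (t : K) ≠ 0 := fun e => ht (Subtype.ext e)
    have hθn : ((θ (n t) : C.G0) : GL D.Idx K) =
        C.op a (f t : K) * C.om a (g (-t⁻¹) : K) * C.op a (f t : K) := by
      simp only [n, map_mul, hf, hg]
      rfl
    have hA : Maps (MulAut.conj (n t)) (C.Uo (C.p a)) (C.Uo (D.neg (C.p a))) := by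
      have := Maps.conj_map (n t) (C.Uo (C.p a))
      rwa [hn, ← C.U_simple, C.map_conj_ns a (C.Pm_coe t) ht0, C.rgd.w_simple, C.U_neg, C.U_simple] at this
    have hB : Maps (MulAut.conj (n t)) (C.Uo (D.neg (C.p a))) (C.Uo (C.p a)) := by
      have := Maps.conj_map (n t) (C.Uo (D.neg (C.p a)))
      rwa [hn, ← C.U_neg, C.map_conj_ns a (C.Pm_coe t) ht0, C.rgd.w_neg, C.rgd.w_simple, C.rgd.neg_neg,
        C.U_simple, C.U_neg] at this
    have h1 : ∀ {A B : Subgroup (GL D.Idx K)}, A ≤ C.G0 → B ≤ C.G0 → Maps (MulAut.conj (θ (n t))) A B →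
        A.map (MulAut.conj ((θ (n t) : C.G0) : GL D.Idx K)).toMonoidHom = B :=
      fun hA' hB' h => (Maps.conj_map _ _).unique h (map_conj_le (θ (n t)).2 hA') hB'
    have e : θ.symm.trans ((MulAut.conj (n t)).trans θ) = MulAut.conj (θ (n t)) := by
      ext y; simp
    refine Subtype.ext ?_
    push_cast
    refine C.mul_eq_neg_one (a := a) (C.Pm_coe _) (C.Pm_coe _) ?_ ?_
    · rw [← hθn]
      exact h1 (Uo_pos_le a) (Uo_neg_le a) (e ▸ (hp.symm.trans (hA.trans hm)))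
    · rw [← hθn]
      exact h1 (Uo_neg_le a) (Uo_pos_le a) (e ▸ (hm.symm.trans (hB.trans hp)))
  set c := f 1 with hc
  have hc0 : c ≠ 0 := fun e => one_ne_zero (hfinj (e.trans hf0.symm))
  have hconj : ∀ (t u : C.Fa a), t ≠ 0 → n t * C.opG a u * (n t)⁻¹ = C.omG a (-u / t ^ 2) := fun t u ht =>
    Subtype.ext (by
      simp only [Subgroup.coe_mul, Subgroup.coe_inv, hn]
      show C.ns a (t : K) * C.op a (u : K) * (C.ns a (t : K))⁻¹ = C.om a _
      rw [C.ns_conj_op a (fun e => ht (Subtype.ext e))]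
      push_cast
      rfl)
  have hg1 : ∀ t, g t = f t / c ^ 2 := by
    intro t
    have hθn : θ (n 1) = n c := by
      have h := key 1 one_ne_zero
      rw [inv_one] at h
      have hg0 : g (-1) = -c⁻¹ := by field_simp; linear_combination h
      simp only [n, inv_one, map_mul, hf, hg, hg0, ← hc]
    apply C.omG_inj
    rw [← hg, show C.omG a t = n 1 * C.opG a (-t) * (n 1)⁻¹ by rw [hconj _ _ one_ne_zero]; simp,
      map_mul, map_mul, map_inv, hf, hθn, hfn, hconj _ _ hc0, _root_.neg_neg]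
  let f0 : C.Fa a → C.Fa a := fun t => f t / c
  have hinv : ∀ t, f0 t⁻¹ = (f0 t)⁻¹ := by
    intro t
    by_cases ht : t = 0
    · simp [f0, ht, hf0]
    have h := key t ht
    rw [hg1, hfn] at h
    have hft : f t ≠ 0 := fun e => ht (hfinj (e.trans hf0.symm))
    show f t⁻¹ / c = (f t / c)⁻¹
    field_simp at h ⊢
    linear_combination -h
  obtain ⟨σ, hσ⟩ := exists_ringEquiv f0 (fun a b h => hfinj (by
      have := congrArg (· * c) h
      simpa [f0, hc0] using this))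
    (fun a b => by simp [f0, hfadd, add_div]) (by simp [f0, ← hc, hc0]) hinv
  refine ⟨σ, Units.mk0 c hc0, fun t => ⟨?_, ?_⟩⟩
  · rw [hf, hσ]
    congr 1
    simp [f0]
    field_simp
  · rw [hg, hg1, hσ]
    congr 1
    simp [f0]
    field_simp

end Ctx

end Cfsg.Agent.TwistE6D4
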