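/-
The outer automorphism group of ²E₆(q), ³D₄(q).

* `dAut`, `fAut` : diagonal and field automorphisms;
* `rho` : the values of the torus at the simple orbits;
* `inner_iff`, `exists_decomp`, `card_out` :
  `|Out| |H| = ∏ (q ^ len - 1) |Aut K|`.
-/
import Cfsg.Agent.Lib.TwistAut.RankOne
import Cfsg.Agent.Lib.ChevAut.Char
import Cfsg.Prelude.Def_KGroupFacts

set_option autoImplicit false
set_option linter.unusedSectionVars false

namespace Cfsg.Agent.TwistE6D4

open Cfsg.Lie Cfsg.Lie.ChevalleyDatum Cfsg.Agent.Chev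
open Cfsg.Agent.ChevAut (Maps charUnit charUnit_conj chiOf chiOf_isRootCharacter chiOf_simple)

variable {D : ChevalleyDatum} {K : Type*} [Field K]

/-- The action of a field automorphism on the general linear group. -/
def galG (τ : RingAut K) : GL D.Idx K →* GL D.Idx K := Matrix.GeneralLinearGroup.map τ.toRingHom

theorem galG_gx (hD : Good D) (τ : RingAut K) (r : ℕ) (t : K) : galG τ (gx hD K r t) = gx hD K r (τ t) :=
  map_gx hD τ.toRingHom r t

/-- `a` is linked to `b`: only the first node of the orbit of `a` is joined to the node of `b`, by one bond. -/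
abbrev Edge (T : Twist D) {m : ℕ} (node : Fin m → Fin D.rank) (a b : Fin m) : Prop :=
  ∀ k < T.len (D.simple (node a).val),
    D.cartan (T.pi^[k] (node a)).val (D.simple (node b).val) = if k = 0 then -1 else 0

namespace Ctx

variable (C : Ctx D K) {M : List (List ℤ)} {d : ℤ} (hR : ChevBN.Roots D M d)

/-- Families of scalars on the simple orbits. -/
abbrev PU : Type _ := ∀ a, (C.Fa a)ˣ

/-- The nodes as pairs (orbit, position). -/
noncomputable def nodeEquiv : (Σ a, Fin (C.L a)) ≃ Fin D.rank :=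
  Equiv.ofBijective (fun x : Σ a, Fin (C.L a) => C.nd x.1 x.2.val) C.hR.node_bij

/-- The value at one position of an orbit. -/
noncomputable def cAt (c : C.PU) (x : Σ a, Fin (C.L a)) : Kˣ :=
  C.itU x.2.val (Units.map ((C.Fa x.1).subtype : C.Fa x.1 →* K) (c x.1))

/-- The values at the simple roots of a family on the orbits. -/
noncomputable def cOf (c : C.PU) (i : Fin D.rank) : Kˣ := C.cAt c (C.nodeEquiv.symm i)

theorem cOf_nd (c : C.PU) (a : Fin C.m) {k : ℕ} (hk : k < C.L a) :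
    (C.cOf c (C.nd a k) : K) = (⇑C.φ)^[k] ((c a : C.Fa a) : K) := by
  have e : C.nodeEquiv.symm (C.nd a k) = ⟨a, ⟨k, hk⟩⟩ := C.nodeEquiv.symm_apply_eq.2 rfl
  rw [cOf, e, cAt, C.coe_itU]
  rfl

/-- The diagonal matrix of a family on the orbits. -/
noncomputable def diagGL (M : List (List ℤ)) (d : ℤ) (c : C.PU) : GL D.Idx K :=
  charUnit D (chiOf D M d (C.cOf c))

section Diag
include hR

theorem chi_rk (c : C.PU) (a : Fin C.m) {k : ℕ} (hk : k < C.L a) :
    (chiOf D M d (C.cOf c) (C.rk a k) : K) = (⇑C.φ)^[k] ((c a : C.Fa a) : K) := by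
  rw [C.rk_eq, chiOf_simple C.hD hR, C.cOf_nd c a hk]

theorem diagGL_conj_op (c : C.PU) (a : Fin C.m) (t : K) :
    C.diagGL M d c * C.op a t * (C.diagGL M d c)⁻¹ = C.op a (((c a : C.Fa a) : K) * t) := by
  simp only [op, oprod]
  rw [← MulAut.conj_apply, map_list_prod, List.map_map]
  refine congrArg List.prod (List.map_congr_left fun k hk => ?_)
  rw [Function.comp_apply, MulAut.conj_apply, diagGL, ← xg_eq,
    charUnit_conj C.hD (chiOf_isRootCharacter C.hD hR _) (C.rk_lt a k), xg_eq,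
    C.chi_rk hR c a (List.mem_range.1 hk), ← RingHom.coe_pow, map_mul]

theorem diagGL_conj_om (c : C.PU) (a : Fin C.m) (t : K) :
    C.diagGL M d c * C.om a t * (C.diagGL M d c)⁻¹ = C.om a (((c a : C.Fa a) : K)⁻¹ * t) := by
  simp only [om, oprod]
  rw [← MulAut.conj_apply, map_list_prod, List.map_map]
  refine congrArg List.prod (List.map_congr_left fun k hk => ?_)
  rw [Function.comp_apply, MulAut.conj_apply, diagGL, ← xg_eq,
    charUnit_conj C.hD (chiOf_isRootCharacter C.hD hR _) (C.hD.neg_lt _ (C.rk_lt a k)), xg_eq,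
    (chiOf_isRootCharacter C.hD hR _).1 _ (C.rk_lt a k), Units.val_inv_eq_inv_val,
    C.chi_rk hR c a (List.mem_range.1 hk), ← RingHom.coe_pow, map_mul, map_inv₀]

variable [Fintype K]

theorem diagGL_mem (c : C.PU) : C.diagGL M d c ∈ Subgroup.normalizer (C.G0 : Set (GL D.Idx K)) := by
  refine Subgroup.mem_normalizer_fintype fun x hx => ?_
  have h : C.G0 ≤ C.G0.comap (MulAut.conj (C.diagGL M d c)).toMonoidHom := by
    refine (Subgroup.closure_le _).2 ?_
    rintro y ⟨a, t, ht, rfl | rfl⟩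
    · show C.diagGL M d c * C.op a t * (C.diagGL M d c)⁻¹ ∈ C.G0
      rw [C.diagGL_conj_op hR]
      exact C.op_mem_G0 a (C.Pm_coe ((c a : C.Fa a) * ⟨t, C.mem_Fa.2 ht⟩))
    · show C.diagGL M d c * C.om a t * (C.diagGL M d c)⁻¹ ∈ C.G0
      rw [C.diagGL_conj_om hR]
      refine C.om_mem_G0 a ?_
      have := C.Pm_coe ((c a : C.Fa a)⁻¹ * ⟨t, C.mem_Fa.2 ht⟩)
      simpa using this
  exact h hx

/-- The diagonal automorphism of one family. -/
noncomputable def dAut1 (c : C.PU) : MulAut C.G0 :=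
  ((MulAut.conj (C.diagGL M d c)).subgroupMap C.G0).trans (MulEquiv.subgroupCongr
    (RGD.RootData.map_conj_eq _ (fun x hx => (Subgroup.mem_normalizer_iff.1 (C.diagGL_mem hR c) x).1 hx)
      fun y hy => by
        have := (Subgroup.mem_normalizer_iff.1 (inv_mem (C.diagGL_mem hR c)) y).1 hy
        rwa [inv_inv] at this))

theorem dAut1_val (c : C.PU) (g : C.G0) :
    ((C.dAut1 hR c g : C.G0) : GL D.Idx K) = C.diagGL M d c * (g : GL D.Idx K) * (C.diagGL M d c)⁻¹ := rfl

theorem dAut1_opG (c : C.PU) (a : Fin C.m) (t : C.Fa a) :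
    C.dAut1 hR c (C.opG a t) = C.opG a ((c a : C.Fa a) * t) :=
  Subtype.ext (C.diagGL_conj_op hR c a t)

theorem dAut1_omG (c : C.PU) (a : Fin C.m) (t : C.Fa a) :
    C.dAut1 hR c (C.omG a t) = C.omG a ((c a : C.Fa a)⁻¹ * t) :=
  Subtype.ext ((C.diagGL_conj_om hR c a t).trans (by simp [omG]))

/-- The diagonal automorphisms. -/
noncomputable def dAut : C.PU →* MulAut C.G0 :=
  MonoidHom.mk' (C.dAut1 hR) fun c c' => C.aut_ext fun a t => by
    simp only [MulAut.mul_apply, dAut1_opG, dAut1_omG, Pi.mul_apply, Units.val_mul, mul_inv, mul_assoc, and_self]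

theorem dAut_opG (c : C.PU) (a : Fin C.m) (t : C.Fa a) :
    C.dAut hR c (C.opG a t) = C.opG a ((c a : C.Fa a) * t) := C.dAut1_opG hR c a t

theorem dAut_omG (c : C.PU) (a : Fin C.m) (t : C.Fa a) :
    C.dAut hR c (C.omG a t) = C.omG a ((c a : C.Fa a)⁻¹ * t) := C.dAut1_omG hR c a t

end Diag

variable [Fintype K] {C} {q k : ℕ} (hq : Hyp C q k)
include hq

theorem phi_comm (τ : RingAut K) (j : ℕ) (t : K) : (⇑C.φ)^[j] (τ t) = τ ((⇑C.φ)^[j] t) := by
  rw [iter_pow hq, iter_pow hq, map_pow]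

theorem galG_op (τ : RingAut K) (a : Fin C.m) (t : K) : galG τ (C.op a t) = C.op a (τ t) := by
  simp only [op, oprod]
  rw [map_list_prod, List.map_map]
  refine congrArg List.prod (List.map_congr_left fun j _ => ?_)
  rw [Function.comp_apply, galG_gx, phi_comm hq]

theorem galG_om (τ : RingAut K) (a : Fin C.m) (t : K) : galG τ (C.om a t) = C.om a (τ t) := by
  simp only [om, oprod]
  rw [map_list_prod, List.map_map]
  refine congrArg List.prod (List.map_congr_left fun j _ => ?_)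
  rw [Function.comp_apply, galG_gx, phi_comm hq]

theorem Pm_map (τ : RingAut K) {a : Fin C.m} {t : K} (ht : C.Pm a t) : C.Pm a (τ t) := by
  unfold Pm at ht ⊢
  rw [phi_comm hq, ht]

theorem galG_mem (τ : RingAut K) {g : GL D.Idx K} (hg : g ∈ C.G0) : galG τ g ∈ C.G0 := by
  have h : C.G0 ≤ C.G0.comap (galG τ) := by
    refine (Subgroup.closure_le _).2 ?_
    rintro y ⟨a, t, ht, rfl | rfl⟩
    · show galG τ (C.op a t) ∈ C.G0
      rw [galG_op hq]
      exact C.op_mem_G0 a (Pm_map hq τ ht)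
    · show galG τ (C.om a t) ∈ C.G0
      rw [galG_om hq]
      exact C.om_mem_G0 a (Pm_map hq τ ht)
  exact h hg

/-- The field automorphisms. -/
noncomputable def fAut : RingAut K →* MulAut C.G0 where
  toFun τ :=
    { toFun := fun g => ⟨galG τ g.1, galG_mem hq τ g.2⟩
      invFun := fun g => ⟨galG τ.symm g.1, galG_mem hq _ g.2⟩
      left_inv := fun g => Subtype.ext (Units.ext (Matrix.ext fun a b => τ.symm_apply_apply _))
      right_inv := fun g => Subtype.ext (Units.ext (Matrix.ext fun a b => τ.apply_symm_apply _))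
      map_mul' := fun g h => Subtype.ext (map_mul (galG τ) g.1 h.1) }
  map_one' := MulEquiv.ext fun g => Subtype.ext (Units.ext (Matrix.ext fun a b => rfl))
  map_mul' σ τ := MulEquiv.ext fun g => Subtype.ext (Units.ext (Matrix.ext fun a b => rfl))

/-- A field automorphism on the parameters of an orbit. -/
def resA (τ : RingAut K) (a : Fin C.m) (t : C.Fa a) : C.Fa a :=
  ⟨τ t, C.mem_Fa.2 (Pm_map hq τ (C.Pm_coe t))⟩

theorem fAut_opG (τ : RingAut K) (a : Fin C.m) (t : C.Fa a) :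
    fAut hq τ (C.opG a t) = C.opG a (resA hq τ a t) :=
  Subtype.ext (galG_op hq τ a t)

theorem fAut_omG (τ : RingAut K) (a : Fin C.m) (t : C.Fa a) :
    fAut hq τ (C.omG a t) = C.omG a (resA hq τ a t) :=
  Subtype.ext (galG_om hq τ a t)

omit hq

variable (C) in
theorem Vneg_eq : C.rgd.Vneg = UT C.hD K C.negSet ⊓ Fix C.hT C.φ := by
  refine le_antisymm (C.span_le_UT _ fun r hr q hq => ?_) (C.Uo_le_span _ C.negSet_ok fun r hr => ?_)
  · obtain ⟨a, b⟩ := C.orbS_pos hq
    have := C.hR.ht_ne r.1 (C.orb_lt r)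
    have hr' : ¬ 0 < C.T.ht r.1 := hr
    exact ⟨a, by omega⟩
  · show ¬ 0 < C.T.ht r.1
    have := hr.2
    omega

theorem UT_mapsTo {T : Set ℕ} (hlt : ∀ r ∈ T, r < D.nroots) (f : GL D.Idx K →* GL D.Idx K)
    (hf : ∀ r < D.nroots, ∀ t : K, ∃ u, f (gx C.hD K r t) = gx C.hD K r u)
    {x : GL D.Idx K} (hx : x ∈ UT C.hD K T) : f x ∈ UT C.hD K T := by
  have h : UT C.hD K T ≤ (UT C.hD K T).comap f := UT_le C.hD fun r hr t => by
    obtain ⟨u, hu⟩ := hf r (hlt r hr) t
    show f (gx C.hD K r t) ∈ UT C.hD K T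
    rw [hu]
    exact gx_mem_UT C.hD hr u
  exact h hx

/-- The values of the torus at the simple orbits. -/
noncomputable def rho : ↥(TorSym C.T C.φ) →* C.PU where
  toFun x a := Units.mk0 ⟨(chiX x.1 (C.p a) : K), C.mem_Fa.2 (by
      have h := C.chiX_rk x.2 a (C.L a)
      rw [C.rk_len] at h
      unfold Pm
      rw [← C.coe_itU, ← h])⟩ fun e => (chiX x.1 (C.p a)).ne_zero (congrArg Subtype.val e)
  map_one' := funext fun a => Units.ext (Subtype.ext (by simp [chiX_one]))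
  map_mul' x y := funext fun a => Units.ext (Subtype.ext (by simp [chiX_mul]))

theorem rho_val (x : ↥(TorSym C.T C.φ)) (a : Fin C.m) :
    (((rho x : C.PU) a : C.Fa a) : K) = chiX x.1 (C.p a) := rfl

theorem card_rho_range
    (hc : ∀ s < D.nroots, ∀ j : Fin D.rank,
      D.cartan j.val s = ∑ i : Fin D.rank, (D.coroot.getD s #[]).getD i.val 0 * D.cartan j.val (D.simple i.val)) :
    Nat.card (rho (C := C)).range = Nat.card C.rgd.H := by
  have hker : (rho (C := C)).ker = ((theta D K).comp (TorSym C.T C.φ).subtype).ker := by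
    ext x
    rw [MonoidHom.mem_ker, MonoidHom.mem_ker, MonoidHom.comp_apply, Subgroup.coe_subtype,
      mem_ker_theta C.hD hc]
    constructor
    · intro h i
      obtain ⟨a, l, -, rfl⟩ := C.nd_surj i
      rw [← C.rk_eq, C.chiX_rk x.2]
      have h1 : chiX x.1 (C.p a) = 1 := Units.ext (by rw [← rho_val, h]; rfl)
      rw [h1, map_one]
    · intro h
      funext a
      refine Units.ext (Subtype.ext ?_)
      rw [rho_val, show C.p a = D.simple (C.node a).val from rfl, h]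
      rfl
  have hH : ((theta D K).comp (TorSym C.T C.φ).subtype).range = C.rgd.H := by
    rw [MonoidHom.range_eq_map, ← Subgroup.map_map, ← MonoidHom.range_eq_map, Subgroup.range_subtype]
    rfl
  rw [← Subgroup.index_ker, hker, Subgroup.index_ker, hH]

theorem dAut_rho (x : ↥(TorSym C.T C.φ)) :
    C.dAut hR (rho x) = MulAut.conj ⟨theta D K x.1, C.theta_mem_G0 x.2⟩ := by
  refine C.aut_ext fun a t => ⟨?_, ?_⟩
  · rw [dAut_opG]
    refine Subtype.ext ?_
    show _ = theta D K x.1 * C.op a t * (theta D K x.1)⁻¹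
    rw [C.theta_conj_op x.2]
    rfl
  · rw [dAut_omG]
    refine Subtype.ext ?_
    show C.om a _ = theta D K x.1 * C.om a t * (theta D K x.1)⁻¹
    simp only [om, oprod]
    rw [← MulAut.conj_apply, map_list_prod, List.map_map]
    refine congrArg List.prod (List.map_congr_left fun j _ => ?_)
    rw [Function.comp_apply, MulAut.conj_apply, theta_conj_gx C.hD x.1 (C.hD.neg_lt _ (C.rk_lt a j))]
    congr 1
    have hn : chiX x.1 (D.neg (C.rk a j)) = (chiX x.1 (C.rk a j))⁻¹ := by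
      simp only [chiX, ← Finset.prod_inv_distrib]
      refine Finset.prod_congr rfl fun i _ => ?_
      rw [(ChevSt.isLin_cartan C.hD i.isLt).neg _ (C.rk_lt a j), _root_.zpow_neg]
    rw [hn, C.chiX_rk x.2, Units.val_inv_eq_inv_val, C.coe_itU]
    push_cast
    rw [rho_val, ← RingHom.coe_pow, map_mul, map_inv₀]

include hq in
/-- A diagonal times a field automorphism is inner only trivially. -/
theorem eq_of_inner {l : List (Fin C.m)} (hl : NegW C.T C.node l) (ha₀ : ∃ a, C.L a = k) {c : C.PU}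
    {τ : RingAut K} (h : C.dAut hR c * fAut hq τ ∈ Cfsg.Inn C.G0) :
    τ = 1 ∧ c ∈ (rho (C := C)).range := by
  obtain ⟨g, hg⟩ := h
  have hval : ∀ y : C.G0, (g : GL D.Idx K) * (y : GL D.Idx K) * (g : GL D.Idx K)⁻¹ =
      C.diagGL M d c * galG τ (y : GL D.Idx K) * (C.diagGL M d c)⁻¹ := fun y =>
    congrArg Subtype.val (DFunLike.congr_fun hg y)
  let F : GL D.Idx K →* GL D.Idx K := (MulAut.conj (C.diagGL M d c)).toMonoidHom.comp (galG τ)
  have hF : ∀ r < D.nroots, ∀ t : K, ∃ u, F (gx C.hD K r t) = gx C.hD K r u := fun r hr t => by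
    refine ⟨(chiOf D M d (C.cOf c) r : K) * τ t, ?_⟩
    show C.diagGL M d c * galG τ (gx C.hD K r t) * (C.diagGL M d c)⁻¹ = _
    rw [galG_gx, diagGL, ← xg_eq, charUnit_conj C.hD (chiOf_isRootCharacter C.hD hR _) hr, xg_eq]
  have hlo := C.long_opp hl
  have hgB : (g : GL D.Idx K) ∈ C.rgd.B := by
    rw [← ChevAut.normalizer_Upos]
    refine Subgroup.mem_inf.2 ⟨Subgroup.mem_normalizer_fintype fun y hy => ?_, by rw [C.rgd_G]; exact g.2⟩
    have hy' := C.Upos_le_G0 hy
    show (g : GL D.Idx K) * y * (g : GL D.Idx K)⁻¹ ∈ C.rgd.Upos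
    rw [C.Upos_eq] at hy ⊢
    refine ⟨?_, C.G0_le_Fix (mul_mem (mul_mem g.2 hy') (inv_mem g.2))⟩
    rw [hval ⟨y, hy'⟩]
    exact UT_mapsTo (C := C) (fun r hr => hr.1) F hF hy.1
  have hgH : (g : GL D.Idx K) ∈ C.rgd.H := by
    rw [← ChevAut.normalizer_Vneg_inf_B C.rgd hlo]
    refine Subgroup.mem_inf.2 ⟨Subgroup.mem_normalizer_fintype fun y hy => ?_, hgB⟩
    have hy' := ChevAut.Vneg_le_K C.rgd hlo C.rgd_G hy
    show (g : GL D.Idx K) * y * (g : GL D.Idx K)⁻¹ ∈ C.rgd.Vneg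
    rw [C.Vneg_eq] at hy ⊢
    refine ⟨?_, C.G0_le_Fix (mul_mem (mul_mem g.2 hy') (inv_mem g.2))⟩
    rw [hval ⟨y, hy'⟩]
    exact UT_mapsTo (C := C) (fun r hr => hr.1) F hF hy.1
  obtain ⟨x, hx, hxg⟩ := hgH
  have key : ∀ a (t : C.Fa a), (chiX x (C.p a) : K) * t = ((c a : C.Fa a) : K) * τ t := by
    intro a t
    have h1 := hval (C.opG a t)
    rw [← hxg] at h1
    simp only [opG] at h1
    rw [C.theta_conj_op hx, galG_op hq, C.diagGL_conj_op hR] at h1
    exact C.op_inj a h1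
  have hc : ∀ a, (chiX x (C.p a) : K) = ((c a : C.Fa a) : K) := fun a => by simpa using key a 1
  refine ⟨?_, ⟨⟨x, hx⟩, funext fun a => Units.ext (Subtype.ext (hc a))⟩⟩
  obtain ⟨a, ha⟩ := ha₀
  refine RingEquiv.ext fun t => ?_
  have h1 := key a ⟨t, C.mem_Fa.2 (hyp_Pm hq ha t)⟩
  rw [hc a] at h1
  exact (mul_left_cancel₀ (fun e => (c a).ne_zero (Subtype.ext e)) h1).symm

theorem chiX_torVec_edge {a b : Fin C.m} (he : Edge C.T C.node a b) (u : Kˣ) :
    chiX (C.torVec a u) (C.p b) = u⁻¹ := by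
  rw [show C.torVec a u = ((List.range (C.L a)).map fun j => Pi.mulSingle (C.nd a j) (C.itU j u)).prod from rfl]
  let F : (Fin D.rank → Kˣ) →* Kˣ := MonoidHom.mk' (fun x => chiX x (C.p b)) fun x y => chiX_mul x y _
  show F _ = _
  rw [map_list_prod, List.map_map, ← List.prod_toFinset _ List.nodup_range, List.toFinset_range,
    Finset.prod_eq_single 0]
  · show chiX (Pi.mulSingle (C.nd a 0) (C.itU 0 u)) (C.p b) = _
    rw [chiX_single, C.itU_zero, show D.cartan (C.nd a 0).val (C.p b) = -1 from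
      (he 0 (C.L_pos a)).trans (if_pos rfl), zpow_neg_one]
  · intro j hj hj0
    show chiX (Pi.mulSingle (C.nd a j) (C.itU j u)) (C.p b) = _
    rw [chiX_single, show D.cartan (C.nd a j).val (C.p b) = 0 from
      (he j (Finset.mem_range.1 hj)).trans (if_neg hj0), zpow_zero]
  · intro h'; exact absurd (Finset.mem_range.2 (C.L_pos a)) h'

theorem field_of_edge {ψ : C.G0 ≃* C.G0} {σ : ∀ a, C.Fa a ≃+* C.Fa a}
    (hψ : ∀ a t, ψ (C.opG a t) = C.opG a (σ a t) ∧ ψ (C.omG a t) = C.omG a (σ a t))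
    {a b : Fin C.m} (he : Edge C.T C.node a b) (τ : RingAut K) (hb : ∀ t, (σ b t : K) = τ t) :
    ∀ t, (σ a t : K) = τ t := by
  intro u
  by_cases hu : u = 0
  · subst hu; simp
  have hu0 : (u : K) ≠ 0 := fun e => hu (Subtype.ext e)
  let n : C.Fa a → C.G0 := fun t => C.opG a t * C.omG a (-t⁻¹) * C.opG a t
  have hn : ∀ t, ((n t : C.G0) : GL D.Idx K) = C.ns a (t : K) := fun t => by
    rw [C.ns_eq]
    simp only [n, opG, omG, Subgroup.coe_mul]
    push_cast
    rfl
  have hψn : ∀ t, ψ (n t) = n (σ a t) := fun t => by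
    simp only [n, map_mul, (hψ a _).1, (hψ a _).2, map_neg, map_inv₀]
  have hh : ∀ v : C.Fa a, ∀ hv : (v : K) ≠ 0, ((n v * n (-1) : C.G0) : GL D.Idx K) =
      theta D K (C.torVec a (Units.mk0 (v : K) hv)) := fun v hv => by
    rw [Subgroup.coe_mul, hn, hn]
    have h := C.ns_mul_ns a (Units.mk0 (v : K) hv) (-1)
    rw [_root_.neg_neg, inv_one, mul_one, Units.val_mk0, Units.val_neg, Units.val_one] at h
    push_cast
    exact h
  have hT : ∀ v : C.Fa a, ∀ hv : (v : K) ≠ 0, C.torVec a (Units.mk0 (v : K) hv) ∈ TorSym C.T C.φ :=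
    fun v hv => C.torVec_mem a (t := Units.mk0 (v : K) hv) (C.Pm_coe v)
  have hconj : ∀ v : C.Fa a, ∀ hv : (v : K) ≠ 0, ∀ t : C.Fa b,
      (((n v * n (-1)) * C.opG b t * (n v * n (-1))⁻¹ : C.G0) : GL D.Idx K) =
        C.op b ((v : K)⁻¹ * t) := fun v hv t => by
    rw [Subgroup.coe_mul, Subgroup.coe_mul, Subgroup.coe_inv, hh v hv]
    show theta D K _ * C.op b t * _ = _
    rw [C.theta_conj_op (hT v hv), chiX_torVec_edge he, Units.val_inv_eq_inv_val, Units.val_mk0]
  have hPb : C.Pm b (u : K)⁻¹ := by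
    have h := C.chiX_rk (hT u hu0) b (C.L b)
    rw [C.rk_len, chiX_torVec_edge he] at h
    unfold Pm
    have h' := congrArg Units.val h
    rw [C.coe_itU, Units.val_inv_eq_inv_val, Units.val_mk0] at h'
    exact h'.symm
  set w : C.Fa b := ⟨(u : K)⁻¹, C.mem_Fa.2 hPb⟩
  have e : n u * n (-1) * C.opG b 1 * (n u * n (-1))⁻¹ = C.opG b w := Subtype.ext (by
    rw [hconj u hu0 1]
    simp [opG, w])
  have e' := congrArg (fun y : C.G0 => (y : GL D.Idx K)) (congrArg ψ e)
  simp only [map_mul, map_inv, hψn, (hψ b _).1, map_neg, map_one] at e'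
  have hσu : ((σ a u : C.Fa a) : K) ≠ 0 := fun h0 => hu ((σ a).injective (by
    rw [map_zero]; exact Subtype.ext h0))
  rw [hconj _ hσu] at e'
  have h3 : ((σ a u : C.Fa a) : K)⁻¹ * ((1 : C.Fa b) : K) = (σ b w : K) := C.op_inj b e'
  rw [hb] at h3
  simp only [w, OneMemClass.coe_one, mul_one, map_inv₀, inv_inj] at h3
  exact h3

variable {p : ℕ} [hp : Fact p.Prime] {f : ℕ} (hqp : q = p ^ f)
include hR hq hqp

/-- Every automorphism is inner times diagonal times field. -/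
theorem exists_decomp {adj : Fin C.m → Fin C.m → Bool} (hA : TabAut C.T C.node adj) {a₀ : Fin C.m}
    (ha₀ : C.L a₀ = k)
    (link : ∀ a, a = a₀ ∨ ∃ b, Edge C.T C.node a b ∧ (b = a₀ ∨ ∃ c, Edge C.T C.node b c ∧
      (c = a₀ ∨ Edge C.T C.node c a₀)))
    (θ : MulAut C.G0) :
    ∃ (x : C.G0) (c : C.PU) (τ : RingAut K), θ = MulAut.conj x * (C.dAut hR c * fAut hq τ) := by
  obtain ⟨x, -, hx⟩ := exists_normalised hq hqp hA θ
  choose σ c hσ using fun a => C.exists_field_of_maps (hx a).1 (hx a).2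
  set φ' : C.G0 ≃* C.G0 := θ.trans (MulAut.conj x) with hφ'
  set ψ : C.G0 ≃* C.G0 := φ'.trans (C.dAut hR c).symm with hψdef
  have hψ : ∀ a t, ψ (C.opG a t) = C.opG a (σ a t) ∧ ψ (C.omG a t) = C.omG a (σ a t) := fun a t =>
    ⟨(C.dAut hR c).symm_apply_eq.2 (show φ' (C.opG a t) = _ by rw [(hσ a t).1, dAut_opG]),
      (C.dAut hR c).symm_apply_eq.2 (show φ' (C.omG a t) = _ by
        rw [(hσ a t).2, dAut_omG, Units.val_inv_eq_inv_val])⟩
  have htop : ∀ t : K, t ∈ C.Fa a₀ := fun t => C.mem_Fa.2 (hyp_Pm hq ha₀ t)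
  let ι : C.Fa a₀ ≃+* K := RingEquiv.ofBijective (C.Fa a₀).subtype
    ⟨Subtype.val_injective, fun t => ⟨⟨t, htop t⟩, rfl⟩⟩
  let τ : RingAut K := (ι.symm.trans (σ a₀)).trans ι
  have h0 : ∀ t, (σ a₀ t : K) = τ t := fun t => by
    show _ = ι (σ a₀ (ι.symm (t : K)))
    rw [show ι.symm (t : K) = t from ι.symm_apply_apply t]
    rfl
  have hall : ∀ a t, (σ a t : K) = τ t := by
    intro a
    rcases link a with rfl | ⟨b, e1, rfl | ⟨b', e2, rfl | e3⟩⟩
    · exact h0
    · exact field_of_edge hψ e1 τ h0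
    · exact field_of_edge hψ e1 τ (field_of_edge hψ e2 τ h0)
    · exact field_of_edge hψ e1 τ (field_of_edge hψ e2 τ (field_of_edge hψ e3 τ h0))
  have hψf : ψ = fAut hq τ := C.aut_ext fun a t => by
    rw [(hψ a t).1, (hψ a t).2, fAut_opG, fAut_omG, show σ a t = resA hq τ a t from Subtype.ext (hall a t)]
    exact ⟨rfl, rfl⟩
  refine ⟨x⁻¹, c, τ, ?_⟩
  rw [← hψf]
  refine MulEquiv.ext fun y => ?_
  simp [ψ, φ', mul_assoc]

/-- The order of the outer automorphism group. -/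
theorem card_out {adj : Fin C.m → Fin C.m → Bool} (hA : TabAut C.T C.node adj) {a₀ : Fin C.m}
    (ha₀ : C.L a₀ = k)
    (link : ∀ a, a = a₀ ∨ ∃ b, Edge C.T C.node a b ∧ (b = a₀ ∨ ∃ c, Edge C.T C.node b c ∧
      (c = a₀ ∨ Edge C.T C.node c a₀)))
    (hc : ∀ s < D.nroots, ∀ j : Fin D.rank,
      D.cartan j.val s = ∑ i : Fin D.rank, (D.coroot.getD s #[]).getD i.val 0 * D.cartan j.val (D.simple i.val)) :
    Nat.card (Cfsg.Out C.G0) * Nat.card C.rgd.H =
      (∏ a, (q ^ C.L a - 1)) * Nat.card (RingAut K) := by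
  classical
  obtain ⟨l, hl, -⟩ := hA.long
  set R := (rho (C := C)).range
  let m : C.PU →* Cfsg.Out C.G0 := (QuotientGroup.mk' _).comp (C.dAut hR)
  let n : RingAut K →* Cfsg.Out C.G0 := (QuotientGroup.mk' _).comp (fAut hq)
  have hmR : ∀ r ∈ R, m r = 1 := by
    rintro _ ⟨x, rfl⟩
    exact (QuotientGroup.eq_one_iff _).2 (MonoidHom.mem_range.2 ⟨_, (dAut_rho hR x).symm⟩)
  let Φ : (C.PU ⧸ R) × RingAut K → Cfsg.Out C.G0 := fun z => m z.1.out * n z.2
  have hbij : Function.Bijective Φ := by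
    constructor
    · rintro ⟨z, τ⟩ ⟨z', τ'⟩ h
      simp only [Φ] at h
      have h1 : m (z'.out⁻¹ * z.out) * n (τ * τ'⁻¹) = 1 := by
        calc m (z'.out⁻¹ * z.out) * n (τ * τ'⁻¹) = (m z'.out)⁻¹ * (m z.out * n τ) * (n τ')⁻¹ := by
              simp only [map_mul, map_inv, mul_assoc]
          _ = _ := by rw [h]; group
      obtain ⟨e1, e2⟩ := eq_of_inner hR hq hl ⟨a₀, ha₀⟩ ((QuotientGroup.eq_one_iff (C.dAut hR (z'.out⁻¹ * z.out) * fAut hq (τ * τ'⁻¹))).1 (by rw [QuotientGroup.mk_mul]; exact h1))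
      rw [mul_inv_eq_one] at e1
      subst e1
      rw [← QuotientGroup.out_eq' z, ← QuotientGroup.out_eq' z', (QuotientGroup.eq.2 e2).symm]
    · intro o
      obtain ⟨θ, rfl⟩ := QuotientGroup.mk_surjective o
      obtain ⟨x, c, τ, rfl⟩ := exists_decomp hR hq hqp hA ha₀ link θ
      refine ⟨((c : C.PU ⧸ R), τ), ?_⟩
      obtain ⟨r, hr⟩ := QuotientGroup.mk_out_eq_mul R c
      show m (Quotient.out (c : C.PU ⧸ R)) * n τ = _
      rw [hr, map_mul, hmR _ r.2, mul_one, QuotientGroup.mk_mul,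
        (QuotientGroup.eq_one_iff (MulAut.conj x)).2 (MonoidHom.mem_range.2 ⟨x, rfl⟩), one_mul, QuotientGroup.mk_mul]
      rfl
  have hP : Nat.card C.PU = ∏ a, (q ^ C.L a - 1) := by
    rw [Nat.card_pi]
    refine Finset.prod_congr rfl fun a _ => ?_
    rw [Nat.card_units, show Nat.card (C.Fa a) = Nat.card (Par C.T C.φ (C.p a)) from
      Nat.card_congr (Equiv.subtypeEquivRight fun t => C.mem_Fa), card_Par hq (C.hR.rep_simple a)]
    rfl
  rw [← Nat.card_congr (Equiv.ofBijective Φ hbij), Nat.card_prod, ← hP, ← card_rho_range hc,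
    Subgroup.card_eq_card_quotient_mul_card_subgroup R]
  ring

end Ctx

end Cfsg.Agent.TwistE6D4
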