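/-
`|Out|` of ²E₆(q) and ³D₄(q).

* `e6Adj`, `d4Adj`, `e6_tabAut`, `d4_tabAut`.
* `card_ringAut_finite`, `card_out_twistedE6`, `card_out_twistedD4`.
-/
import Cfsg.Agent.Lib.TwistAut.Out
import Mathlib.FieldTheory.Galois.Basic
import Mathlib.FieldTheory.Finite.GaloisField

set_option autoImplicit false
set_option maxRecDepth 100000

namespace Cfsg.Agent.TwistE6D4

open Cfsg.Lie Cfsg.Lie.ChevalleyDatum Cfsg.Agent.Chev

/-- The diagram of type F₄. -/
def e6Adj (a b : Fin 4) : Bool := decide (a.val + 1 = b.val ∨ b.val + 1 = a.val)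

/-- The diagram of type G₂. -/
def d4Adj (a b : Fin 2) : Bool := decide (a ≠ b)

theorem e6_rigid : ∀ π : Fin 4 → Fin 4,
    (∀ a, ([1, 1, 2, 2] : List ℕ).getD (π a).val 0 = ([1, 1, 2, 2] : List ℕ).getD a.val 0) →
    (∀ a b, a ≠ b → π a ≠ π b) → (∀ a b, a ≠ b → e6Adj (π a) (π b) = e6Adj a b) → ∀ a, π a = a := by
  decide +kernel

theorem e6_tabAut : TabAut e6Twist e6Node e6Adj where
  long := ⟨_, e6_long, by decide +kernel⟩
  pm := by decide +kernel
  pp := by decide +kernel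
  up := by decide +kernel
  rigid π h := e6_rigid π fun a => by rw [← e6_len, ← e6_len]; exact h a

theorem d4_rigid : ∀ π : Fin 2 → Fin 2,
    (∀ a, ([3, 1] : List ℕ).getD (π a).val 0 = ([3, 1] : List ℕ).getD a.val 0) → ∀ a, π a = a := by
  decide +kernel

theorem d4_tabAut : TabAut d4Twist d4Node d4Adj where
  long := ⟨_, d4_long, by decide +kernel⟩
  pm := by decide +kernel
  pp := by decide +kernel
  up := by decide +kernel
  rigid π h _ _ := d4_rigid π fun a => by rw [← d4_len, ← d4_len]; exact h a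

theorem e6_link : ∀ a : Fin 4, a = 3 ∨ ∃ b, Edge e6Twist e6Node a b ∧ (b = 3 ∨ ∃ c, Edge e6Twist e6Node b c ∧
    (c = 3 ∨ Edge e6Twist e6Node c 3)) := by decide +kernel

theorem d4_link : ∀ a : Fin 2, a = 0 ∨ ∃ b, Edge d4Twist d4Node a b ∧ (b = 0 ∨ ∃ c, Edge d4Twist d4Node b c ∧
    (c = 0 ∨ Edge d4Twist d4Node c 0)) := by decide +kernel

variable {K : Type*} [Field K] [Fintype K]

theorem card_ringAut_finite (p n : ℕ) [Fact p.Prime] [CharP K p] (hK : Fintype.card K = p ^ n) :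
    Nat.card (RingAut K) = n := by
  letI := ZMod.algebra K p
  let toAlg : RingAut K → (K ≃ₐ[ZMod p] K) := fun τ =>
    AlgEquiv.ofRingEquiv (f := τ) fun x =>
      RingHom.congr_fun (Subsingleton.elim (τ.toRingHom.comp (algebraMap (ZMod p) K))
        (algebraMap (ZMod p) K)) x
  let eq : RingAut K ≃ (K ≃ₐ[ZMod p] K) :=
    { toFun := toAlg
      invFun := fun σ => σ.toRingEquiv
      left_inv := fun τ => RingEquiv.ext fun _ => rfl
      right_inv := fun σ => AlgEquiv.ext fun _ => rfl }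
  rw [Nat.card_congr eq, IsGalois.card_aut_eq_finrank]
  have := Module.card_eq_pow_finrank (K := ZMod p) (V := K)
  rw [hK, ZMod.card] at this
  exact (Nat.pow_right_injective (Fact.out : p.Prime).two_le this).symm

theorem card_out_twistedE6 (hD : Good chevE6) (p f : ℕ) [Fact p.Prime] [CharP K p]
    (hK : Fintype.card K = p ^ (2 * f)) (hf : 1 ≤ f) :
    Nat.card (Cfsg.Out ↥(twistedE6 K (p ^ f))) = 2 * Nat.gcd 3 (p ^ f + 1) * f := by
  have hq : IsPrimePow (p ^ f) := (Fact.out : p.Prime).isPrimePow.pow (by omega)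
  have hK' : Fintype.card K = (p ^ f) ^ 2 := by rw [hK, ← pow_mul, mul_comm]
  obtain ⟨φ, e, h⟩ := exists_ctxE6 hD hq hK'
  have hd := card_diag_E6 hD hq hK'
  rw [e, (ctxE6 hD φ).diagonal_inf_G0 ChevBN.rootsE6] at hd
  rw [e]
  have h1 := Ctx.card_out ChevBN.rootsE6 h (p := p) (f := f) rfl (C := ctxE6 hD φ) e6_tabAut
    (a₀ := (3 : Fin 4)) (e6_len 3) e6_link e6_cartan
  rw [card_ringAut_finite p (2 * f) hK] at h1
  have hprod : (∏ a : Fin (ctxE6 hD φ).m, ((p ^ f) ^ (ctxE6 hD φ).L a - 1)) =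
      (p ^ f - 1) ^ 4 * (p ^ f + 1) ^ 2 := by
    show ∏ a : Fin 4, ((p ^ f) ^ e6Twist.len (chevE6.simple (e6Node a).val) - 1) = _
    simp only [e6_len, Fin.prod_univ_four]
    norm_num
    have hq1 : 1 ≤ p ^ f := hq.one_lt.le
    have hq2 : 1 ≤ (p ^ f) ^ 2 := Nat.one_le_pow _ _ (by omega)
    zify [hq1, hq2]
    ring
  rw [hprod, ← hd] at h1
  refine Nat.eq_of_mul_eq_mul_right (Nat.card_pos (α := (ctxE6 hD φ).rgd.H)) (h1.trans ?_)
  ring

theorem card_out_twistedD4 (hD : Good chevD4) (p f : ℕ) [Fact p.Prime] [CharP K p]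
    (hK : Fintype.card K = p ^ (3 * f)) (hf : 1 ≤ f) :
    Nat.card (Cfsg.Out ↥(twistedD4 K (p ^ f))) = 3 * f := by
  have hq : IsPrimePow (p ^ f) := (Fact.out : p.Prime).isPrimePow.pow (by omega)
  have hK' : Fintype.card K = (p ^ f) ^ 3 := by rw [hK, ← pow_mul, mul_comm]
  obtain ⟨φ, e, h⟩ := exists_ctxD4 hD hq hK'
  have hd := card_diag_D4 hD hq hK'
  rw [e, (ctxD4 hD φ).diagonal_inf_G0 ChevBN.rootsD4] at hd
  rw [e]
  have h1 := Ctx.card_out ChevBN.rootsD4 h (p := p) (f := f) rfl (C := ctxD4 hD φ) d4_tabAut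
    (a₀ := (0 : Fin 2)) (d4_len 0) d4_link d4_cartan
  rw [card_ringAut_finite p (3 * f) hK] at h1
  have hprod : (∏ a : Fin (ctxD4 hD φ).m, ((p ^ f) ^ (ctxD4 hD φ).L a - 1)) =
      (p ^ f - 1) ^ 2 * ((p ^ f) ^ 2 + p ^ f + 1) := by
    show ∏ a : Fin 2, ((p ^ f) ^ d4Twist.len (chevD4.simple (d4Node a).val) - 1) = _
    simp only [d4_len, Fin.prod_univ_two]
    norm_num
    have hq1 : 1 ≤ p ^ f := hq.one_lt.le
    have hq3 : 1 ≤ (p ^ f) ^ 3 := Nat.one_le_pow _ _ (by omega)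
    zify [hq1, hq3]
    ring
  rw [hprod, ← hd] at h1
  refine Nat.eq_of_mul_eq_mul_right (Nat.card_pos (α := (ctxD4 hD φ).rgd.H)) (h1.trans ?_)
  ring

end Cfsg.Agent.TwistE6D4
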